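import Groth.Agent.GenFree.Main
import Groth.Agent.FittLib.Proj
import Groth.Agent.Fitting.Transform
import Mathlib

/-! The stratum of a Hilbert function. -/

set_option autoImplicit false
set_option linter.style.haveILetI false
universe u

open TensorProduct PrimeSpectrum

noncomputable section

namespace Groth.Agent.HilbStratum

/-- For a finite projective module, Fitting ideals read the rank. -/
theorem not_le_iff_rankAtStalk {B : Type u} [CommRing B] {N : Type u} [AddCommGroup N] [Module B N]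
    [Module.Finite B N] [Module.Projective B N] (q : PrimeSpectrum B) (k : ℕ) :
    ¬ Fitt.ideal B N k ≤ q.asIdeal ↔ Module.rankAtStalk N q ≤ k := by
  rw [Fitting.not_le_iff_finrank]
  haveI : Module.Flat B N := inferInstance
  have h := Module.rankAtStalk_baseChange (R := B) (M := N) (S := q.asIdeal.ResidueField) ⊥
  rw [Module.rankAtStalk_eq_finrank_of_free] at h
  have h2 : (⊥ : PrimeSpectrum q.asIdeal.ResidueField).comap (algebraMap B q.asIdeal.ResidueField) = q :=
    PrimeSpectrum.ext (Ideal.ker_algebraMap_residueField q.asIdeal)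
  rw [h2] at h
  rw [← h]
  rfl

/-- Fitting ideals of graded pieces are constant on a nonempty open piece of an irreducible closed set. -/
theorem exists_piece {A : Type u} [CommRing A] {R : Type u} [CommRing R] [Algebra A R] [Algebra.FiniteType A R]
    {M : Type u} [AddCommGroup M] [Module A M] [Module R M] [IsScalarTower A R M] [Module.Finite R M]
    (ℳ : ℤ → Submodule A M) [DirectSum.Decomposition ℳ] (hfg : ∀ v, Module.Finite A (ℳ v))
    (P : Ideal A) [P.IsPrime] :
    ∃ f ∉ P, ∀ p : PrimeSpectrum A, P ≤ p.asIdeal → f ∉ p.asIdeal → ∀ v k,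
      (Fitt.ideal A (ℳ v) k ≤ p.asIdeal ↔ Fitt.ideal A (ℳ v) k ≤ P) := by
  classical
  let I : Ideal R := P.map (algebraMap A R)
  let W : Submodule R M := I • ⊤
  have htor : Module.IsTorsionBySet A (M ⧸ W) (P : Set A) := by
    intro x a
    induction x using Submodule.Quotient.induction_on with
    | _ m =>
      rw [← Submodule.Quotient.mk_smul, Submodule.Quotient.mk_eq_zero, ← algebraMap_smul R]
      exact Submodule.smul_mem_smul (Ideal.mem_map_of_mem _ a.2) Submodule.mem_top
  letI : Module (A ⧸ P) (M ⧸ W) := htor.module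
  haveI : IsScalarTower A (A ⧸ P) (M ⧸ W) := htor.isScalarTower
  haveI : IsScalarTower (A ⧸ P) (R ⧸ I) (M ⧸ W) := ⟨fun a r x => by
    obtain ⟨a, rfl⟩ := Ideal.Quotient.mk_surjective a
    rw [← Ideal.Quotient.algebraMap_eq, algebraMap_smul, algebraMap_smul, smul_assoc]⟩
  haveI : Module.Finite (R ⧸ I) (M ⧸ W) := Module.Finite.of_restrictScalars_finite R (R ⧸ I) (M ⧸ W)
  haveI : Algebra.FiniteType (A ⧸ P) (R ⧸ I) := Algebra.FiniteType.of_restrictScalars_finiteType A (A ⧸ P) (R ⧸ I)
  obtain ⟨g, hg0, hfree, -⟩ := GenFree.generic_freeness (R := A ⧸ P) (S := R ⧸ I) (M := M ⧸ W)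
  obtain ⟨f, rfl⟩ := Ideal.Quotient.mk_surjective g
  refine ⟨f, fun hf => hg0 (Ideal.Quotient.eq_zero_iff_mem.2 hf), fun p hPp hfp v k => ?_⟩
  let C := Localization.Away (Ideal.Quotient.mk P f)
  have hkill : ∀ a ∈ P, algebraMap A C a = 0 := fun a ha => by
    rw [IsScalarTower.algebraMap_apply A (A ⧸ P) C, Ideal.Quotient.algebraMap_eq,
      Ideal.Quotient.eq_zero_iff_mem.2 ha, map_zero]
  -- `C ⊗ M` is free
  have hW : ∀ x ∈ W, ∀ c : C, c ⊗ₜ[A] x = 0 := fun x hx => by
    refine Submodule.smul_induction_on hx (fun r hr m _ => ?_) fun x y hx hy c => by rw [tmul_add, hx, hy, add_zero]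
    clear hx
    revert m
    induction hr using Submodule.span_induction with
    | mem r hr =>
      obtain ⟨a, ha, rfl⟩ := hr
      intro m _ c
      rw [algebraMap_smul, ← smul_tmul, Algebra.smul_def, hkill a ha, zero_mul, zero_tmul]
    | zero => intro m _ c; rw [zero_smul, tmul_zero]
    | add r s _ _ hr hs => intro m hm c; rw [add_smul, tmul_add, hr m hm, hs m hm, add_zero]
    | smul t r _ hr => intro m _ c; rw [smul_eq_mul, mul_comm, mul_smul]; exact hr _ Submodule.mem_top c
  have hbij : Function.Bijective ((W.mkQ.restrictScalars A).baseChange C) := by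
    rw [LinearMap.baseChange_eq_ltensor]
    refine ⟨(injective_iff_map_eq_zero _).2 fun x hx => ?_, LinearMap.lTensor_surjective C W.mkQ_surjective⟩
    have hex : Function.Exact (W.subtype.restrictScalars A) (W.mkQ.restrictScalars A) := LinearMap.exact_subtype_mkQ W
    obtain ⟨y, rfl⟩ := (lTensor_exact C hex W.mkQ_surjective x).1 hx
    have h0 : (W.subtype.restrictScalars A).lTensor C = 0 := TensorProduct.ext' fun c w => hW w w.2 c
    rw [h0, LinearMap.zero_apply]
  haveI : Module.Free C (C ⊗[A] M) := by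
    let e : C ⊗[A] M ≃ₗ[C] C ⊗[A] (M ⧸ W) := LinearEquiv.ofBijective _ hbij
    haveI : TensorProduct.CompatibleSMul A (A ⧸ P) C (M ⧸ W) := ⟨fun g c x => by
      obtain ⟨a, rfl⟩ := Ideal.Quotient.mk_surjective g
      show (algebraMap A (A ⧸ P) a • c) ⊗ₜ[A] x = c ⊗ₜ[A] (algebraMap A (A ⧸ P) a • x)
      rw [algebraMap_smul, algebraMap_smul, smul_tmul]⟩
    let e' : C ⊗[A ⧸ P] (M ⧸ W) ≃ₗ[C] C ⊗[A] (M ⧸ W) := TensorProduct.equivOfCompatibleSMul _ _ _ _ _
    exact Module.Free.of_equiv (e'.trans e.symm)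
  -- so `C ⊗ ℳ v` is projective
  let pr : M →ₗ[A] ℳ v := (DirectSum.component A ℤ (fun i => ℳ i) v).comp (DirectSum.decomposeLinearEquiv ℳ).toLinearMap
  have hpr : pr.comp (ℳ v).subtype = LinearMap.id := LinearMap.ext fun x => by
    simp [pr, DirectSum.decomposeLinearEquiv_apply, DirectSum.decompose_coe, ← DirectSum.lof_eq_of A]
  haveI := hfg v
  haveI : Module.Projective C (C ⊗[A] ℳ v) :=
    Module.Projective.of_split ((ℳ v).subtype.baseChange C) (pr.baseChange C) (by
      rw [← LinearMap.baseChange_comp, hpr, LinearMap.baseChange_id])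
  haveI : Module.Flat C (C ⊗[A] ℳ v) := @Module.Flat.of_projective C (C ⊗[A] ℳ v) _ _ _ ‹_›
  haveI : IsDomain C := IsLocalization.isDomain_localization
    (powers_le_nonZeroDivisors_of_noZeroDivisors hg0)
  -- constant rank
  have key : ∀ q : PrimeSpectrum C, (Fitt.ideal A (ℳ v) k ≤ q.asIdeal.comap (algebraMap A C) ↔
      Fitt.ideal A (ℳ v) k ≤ (⊥ : PrimeSpectrum C).asIdeal.comap (algebraMap A C)) := by
    intro q
    rw [← Ideal.map_le_iff_le_comap, ← Ideal.map_le_iff_le_comap, ← FittLib.ideal_baseChange, ← not_iff_not,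
      not_le_iff_rankAtStalk, not_le_iff_rankAtStalk,
      Module.rankAtStalk_eq_of_le_of_finite_of_flat (C ⊗[A] ℳ v) (bot_le : (⊥ : PrimeSpectrum C) ≤ q)]
  have hbot : (⊥ : PrimeSpectrum C).asIdeal.comap (algebraMap A C) = P := by
    ext a
    show algebraMap A C a = 0 ↔ a ∈ P
    rw [IsScalarTower.algebraMap_apply A (A ⧸ P) C, map_eq_zero_iff _
      (IsLocalization.injective C (powers_le_nonZeroDivisors_of_noZeroDivisors hg0)),
      Ideal.Quotient.algebraMap_eq, Ideal.Quotient.eq_zero_iff_mem]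
  obtain ⟨q, hq⟩ : ∃ q : PrimeSpectrum C, q.asIdeal.comap (algebraMap A C) = p.asIdeal := by
    let p' : PrimeSpectrum (A ⧸ P) := ⟨p.asIdeal.map (Ideal.Quotient.mk P),
      Ideal.map_isPrime_of_surjective Ideal.Quotient.mk_surjective (by rwa [Ideal.mk_ker])⟩
    have hc : p'.asIdeal.comap (Ideal.Quotient.mk P) = p.asIdeal := by
      rw [Ideal.comap_map_of_surjective _ Ideal.Quotient.mk_surjective, ← RingHom.ker_eq_comap_bot,
        Ideal.mk_ker, sup_eq_left.2 hPp]
    obtain ⟨q, hq⟩ : p' ∈ Set.range (PrimeSpectrum.comap (algebraMap (A ⧸ P) C)) := by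
      rw [PrimeSpectrum.localization_away_comap_range C (Ideal.Quotient.mk P f)]
      intro h
      exact hfp (hc ▸ (Ideal.mem_comap.2 h))
    refine ⟨q, ?_⟩
    rw [IsScalarTower.algebraMap_eq A (A ⧸ P) C, ← Ideal.comap_comap, Ideal.Quotient.algebraMap_eq, ← hc, ← hq]
    rfl
  rw [← hq, key, hbot]

theorem main (A : Type u) [CommRing A] [IsNoetherianRing A]
    {R : Type u} [CommRing R] [Algebra A R] [Algebra.FiniteType A R]
    {M : Type u} [AddCommGroup M] [Module A M] [Module R M] [IsScalarTower A R M] [Module.Finite R M]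
    (ℳ : ℤ → Submodule A M) [DirectSum.Decomposition ℳ] (hfg : ∀ v, Module.Finite A (ℳ v)) (h : ℤ → ℕ) :
    ∃ a b : Ideal A, ∀ (B : Type u) [CommRing B] [Algebra A B],
      ((∀ v : ℤ, Module.Finite B (B ⊗[A] ↥(ℳ v)) ∧ Module.Projective B (B ⊗[A] ↥(ℳ v)) ∧
          ∀ p : PrimeSpectrum B, Module.rankAtStalk (B ⊗[A] ↥(ℳ v)) p = h v) ↔
        (Ideal.map (algebraMap A B) a = ⊥ ∧ Ideal.map (algebraMap A B) b = ⊤)) := by
  haveI := hfg
  let a : Ideal A := ⨆ (v : ℤ) (j : ℕ) (_ : j < h v), Fitt.ideal A (ℳ v) j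
  let T : Set (PrimeSpectrum A) := {p | a ≤ p.asIdeal ∧ ∃ v, Fitt.ideal A (ℳ v) (h v) ≤ p.asIdeal}
  have hcl : ∀ I : Ideal A, IsClosed (T ∩ zeroLocus (I : Set A)) := by
    intro I
    induction I using WellFoundedGT.induction with
    | _ I ih =>
      by_cases htop : I = ⊤
      · rw [htop, Submodule.top_coe, zeroLocus_univ, Set.inter_empty]; exact isClosed_empty
      by_cases hI : I.IsPrime
      · haveI := hI
        by_cases hT : (⟨I, hI⟩ : PrimeSpectrum A) ∈ T
        · obtain ⟨h1, v, h2⟩ := hT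
          rw [show T ∩ zeroLocus (I : Set A) = zeroLocus (I : Set A) from Set.inter_eq_right.2 fun p hp => ⟨h1.trans hp, v, h2.trans hp⟩]
          exact isClosed_zeroLocus _
        · obtain ⟨f, hf, hfT⟩ : ∃ f ∉ I, ∀ p ∈ T, I ≤ p.asIdeal → f ∈ p.asIdeal := by
            by_cases ha : a ≤ I
            · obtain ⟨f, hf, hfp⟩ := exists_piece (R := R) ℳ hfg I
              refine ⟨f, hf, fun p hp hIp => by_contra fun hfp' => hT ⟨ha, ?_⟩⟩
              obtain ⟨v, hv⟩ := hp.2
              exact ⟨v, (hfp p hIp hfp' v _).1 hv⟩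
            · obtain ⟨f, hfa, hf⟩ := SetLike.not_le_iff_exists.1 ha
              exact ⟨f, hf, fun p hp _ => hp.1 hfa⟩
          have heq : T ∩ zeroLocus (I : Set A) = T ∩ zeroLocus ((I ⊔ Ideal.span {f} : Ideal A) : Set A) :=
            Set.ext fun p => ⟨fun hp => ⟨hp.1, sup_le hp.2 ((Ideal.span_singleton_le_iff_mem _).2 (hfT p hp.1 hp.2))⟩,
              fun hp => ⟨hp.1, fun x hx => hp.2 (Ideal.mem_sup_left hx)⟩⟩
          rw [heq]
          exact ih _ (left_lt_sup.2 fun hle => hf (hle (Ideal.mem_span_singleton_self f)))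
      · rw [Ideal.isPrime_iff] at hI
        push Not at hI
        obtain ⟨x, y, hxy, hx, hy⟩ := hI htop
        have heq : T ∩ zeroLocus (I : Set A) = (T ∩ zeroLocus ((I ⊔ Ideal.span {x} : Ideal A) : Set A)) ∪
            (T ∩ zeroLocus ((I ⊔ Ideal.span {y} : Ideal A) : Set A)) := by
          rw [← Set.inter_union_distrib_left]
          congr 1
          refine Set.ext fun p => ⟨fun hp => ?_, fun hp => ?_⟩
          · rcases p.2.mem_or_mem (hp hxy) with h | h
            · exact Or.inl (sup_le hp ((Ideal.span_singleton_le_iff_mem _).2 h))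
            · exact Or.inr (sup_le hp ((Ideal.span_singleton_le_iff_mem _).2 h))
          · rcases hp with hp | hp <;> exact fun z hz => hp (Ideal.mem_sup_left hz)
        rw [heq]
        exact (ih _ (left_lt_sup.2 fun hle => hx (hle (Ideal.mem_span_singleton_self x)))).union
          (ih _ (left_lt_sup.2 fun hle => hy (hle (Ideal.mem_span_singleton_self y))))
  have hTcl : IsClosed T := by simpa using hcl ⊥
  refine ⟨a, vanishingIdeal T, fun B _ _ => ?_⟩
  have hFB : ∀ v k, Fitt.ideal B (B ⊗[A] ℳ v) k = (Fitt.ideal A (ℳ v) k).map (algebraMap A B) := fun v k =>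
    haveI := hfg v; FittLib.ideal_baseChange (R := A) (M := ℳ v) B k
  constructor
  · intro H
    have hbot : ∀ v j, j < h v → (Fitt.ideal A (ℳ v) j).map (algebraMap A B) = ⊥ := fun v j hj => by
      obtain ⟨h1, h2, h3⟩ := H v
      rw [← hFB]
      exact Fitting.ideal_eq_bot_of_rankAtStalk h3 hj
    refine ⟨?_, by_contra fun hne => ?_⟩
    · simp only [a, Ideal.map_iSup, iSup_eq_bot]
      exact hbot
    · obtain ⟨m, hm, hle⟩ := Ideal.exists_le_maximal _ hne
      haveI := hm.isPrime
      have hmem : (⟨m.comap (algebraMap A B), inferInstance⟩ : PrimeSpectrum A) ∈ zeroLocus (vanishingIdeal T : Set A) :=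
        Ideal.map_le_iff_le_comap.1 hle
      rw [zeroLocus_vanishingIdeal_eq_closure, hTcl.closure_eq] at hmem
      obtain ⟨-, v, hv⟩ := hmem
      obtain ⟨h1, h2, h3⟩ := H v
      refine (not_le_iff_rankAtStalk (⟨m, hm.isPrime⟩ : PrimeSpectrum B) (h v)).2 (h3 _).le ?_
      rw [hFB]
      exact Ideal.map_le_iff_le_comap.2 hv
  · rintro ⟨ha, hb⟩ v
    haveI := hfg v
    haveI hfin : Module.Finite B (B ⊗[A] ℳ v) := inferInstance
    have htopv : Fitt.ideal B (B ⊗[A] ℳ v) (h v) = ⊤ := by
      by_contra hne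
      obtain ⟨m, hm, hle⟩ := Ideal.exists_le_maximal _ hne
      haveI := hm.isPrime
      rw [hFB, Ideal.map_le_iff_le_comap] at hle
      have hmem : (⟨m.comap (algebraMap A B), inferInstance⟩ : PrimeSpectrum A) ∈ T :=
        ⟨Ideal.map_le_iff_le_comap.1 (ha.le.trans bot_le), v, hle⟩
      refine hm.ne_top (top_le_iff.1 ?_)
      rw [← hb, Ideal.map_le_iff_le_comap]
      exact fun x hx => (PrimeSpectrum.mem_vanishingIdeal _ _).1 hx _ hmem
    have hbotv : ∀ j, j < h v → Fitt.ideal B (B ⊗[A] ℳ v) j = ⊥ := fun j hj => by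
      rw [hFB, eq_bot_iff, ← ha]
      exact Ideal.map_mono (le_iSup_of_le v (le_iSup_of_le j (le_iSup (fun _ : j < h v => Fitt.ideal A (ℳ v) j) hj)))
    haveI hproj : Module.Projective B (B ⊗[A] ℳ v) := FittLib.projective_of_ideal htopv
      (or_iff_not_imp_left.2 fun h0 => hbotv _ (by omega))
    refine ⟨hfin, hproj, fun q => le_antisymm ?_ (le_of_not_gt fun hlt => ?_)⟩
    · refine (not_le_iff_rankAtStalk q (h v)).1 fun hle => q.2.ne_top (top_le_iff.1 ?_)
      rwa [htopv] at hle
    · refine (not_le_iff_rankAtStalk (N := B ⊗[A] ℳ v) q _).2 le_rfl ?_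
      rw [hbotv _ hlt]
      exact bot_le

end Groth.Agent.HilbStratum
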